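import Mathlib
import Cfsg.Agent.H218.Glob

/-!
# S5258, L2a: the abstract identification of `SL₂(K)` on `K × K` (helper7)

`G` is a finite group of additive automorphisms of `K × K` which contains the root group `TG K` as a Sylow `p`-subgroup
which is not normal. Then the normal closure of `TG K` in `G` is conjugate to `SL₂(K)` by an additive shear.
-/

set_option autoImplicit false
set_option linter.unusedSectionVars false

namespace Cfsg.Agent.H7.PU.Core

open Matrix Cfsg.Agent.H218.Count Cfsg.Agent.H218.CountQ Cfsg.Agent.H218.Glob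

universe u

section Basic

/-- the additive automorphisms of `K × K` -/
abbrev A2 (K : Type u) [Field K] := (K × K) ≃ₗ[ℤ] (K × K)

variable {K : Type u} [Field K]

theorem ai (g : A2 K) (u : K × K) : g (g⁻¹ u) = u := LinearEquiv.apply_symm_apply g u

theorem ia (g : A2 K) (u : K × K) : g⁻¹ (g u) = u := LinearEquiv.symm_apply_apply g u

/-- an additive equivalence as an element of the group -/
def mk (e : (K × K) ≃+ (K × K)) : A2 K := e.toIntLinearEquiv

theorem mk_apply (e : (K × K) ≃+ (K × K)) (u : K × K) : mk e u = e u := rfl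

/-- the root element -/
def tau (r : K) : A2 K := mk {
  toFun u := (u.1 + r * u.2, u.2)
  invFun u := (u.1 - r * u.2, u.2)
  left_inv u := by simp
  right_inv u := by simp
  map_add' u v := by
    ext
    · simp only [Prod.fst_add, Prod.snd_add]; ring
    · rfl }

theorem tau_apply (r : K) (u : K × K) : tau r u = (u.1 + r * u.2, u.2) := rfl

theorem ext' {g g' : A2 K} (h : ∀ u, g u = g' u) : g = g' := LinearEquiv.ext h

theorem tau_add (r s : K) : tau (r + s) = tau r * tau s := by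
  apply ext'
  intro u
  ext
  · show u.1 + (r + s) * u.2 = u.1 + s * u.2 + r * u.2
    ring
  · rfl

theorem tau_zero : tau (0 : K) = 1 := by
  apply ext'
  intro u
  ext
  · show u.1 + 0 * u.2 = u.1
    ring
  · rfl

theorem tau_injective : Function.Injective (tau : K → A2 K) := by
  intro r s h
  have h1 : tau r (0, 1) = tau s (0, 1) := by rw [h]
  rw [tau_apply, tau_apply] at h1
  have h2 := congrArg Prod.fst h1
  simpa using h2

/-- the root group -/
def TG (K : Type u) [Field K] : Subgroup (A2 K) where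
  carrier := {g | ∃ r : K, g = tau r}
  one_mem' := ⟨0, tau_zero.symm⟩
  mul_mem' := by
    rintro _ _ ⟨r, rfl⟩ ⟨s, rfl⟩
    exact ⟨r + s, (tau_add r s).symm⟩
  inv_mem' := by
    rintro _ ⟨r, rfl⟩
    refine ⟨-r, ?_⟩
    rw [inv_eq_iff_mul_eq_one, ← tau_add, add_neg_cancel, tau_zero]

theorem mem_TG {g : A2 K} : g ∈ TG K ↔ ∃ r : K, g = tau r := Iff.rfl

theorem tau_mem (r : K) : tau r ∈ TG K := ⟨r, rfl⟩

theorem card_TG : Nat.card (TG K) = Nat.card K := by
  refine Nat.card_congr (Equiv.ofBijective (fun r : K => (⟨tau r, tau_mem r⟩ : TG K)) ⟨?_, ?_⟩).symm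
  · intro r s h
    exact tau_injective (congrArg Subtype.val h)
  · rintro ⟨_, r, rfl⟩
    exact ⟨r, rfl⟩

/-- the subgroup generated by the conjugates of `TG K` -/
def LG (G : Subgroup (A2 K)) : Subgroup (A2 K) :=
  Subgroup.closure {x | ∃ g ∈ G, ∃ t ∈ TG K, x = g * t * g⁻¹}

theorem conj_mem_LG {G : Subgroup (A2 K)} {g t : A2 K} (hg : g ∈ G) (ht : t ∈ TG K) :
    g * t * g⁻¹ ∈ LG G := Subgroup.subset_closure ⟨g, hg, t, ht, rfl⟩

theorem TG_le_LG (G : Subgroup (A2 K)) : TG K ≤ LG G := by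
  intro t ht
  have := conj_mem_LG (G := G) (one_mem _) ht
  rwa [one_mul, inv_one, mul_one] at this

theorem LG_le {G : Subgroup (A2 K)} (h : TG K ≤ G) : LG G ≤ G := by
  refine (Subgroup.closure_le _).2 ?_
  rintro _ ⟨g, hg, t, ht, rfl⟩
  exact mul_mem (mul_mem hg (h ht)) (inv_mem hg)

theorem LG_conj {G : Subgroup (A2 K)} {g x : A2 K} (hg : g ∈ G) (hx : x ∈ LG G) :
    g * x * g⁻¹ ∈ LG G := by
  have h1 : LG G ≤ (LG G).comap (MulAut.conj g).toMonoidHom := by
    refine (Subgroup.closure_le _).2 ?_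
    rintro _ ⟨k, hk, t, ht, rfl⟩
    show g * (k * t * k⁻¹) * g⁻¹ ∈ LG G
    have h2 : g * (k * t * k⁻¹) * g⁻¹ = (g * k) * t * (g * k)⁻¹ := by group
    rw [h2]
    exact conj_mem_LG (mul_mem hg hk) ht
  exact h1 hx

/-- the action of a matrix -/
def ml (M : Matrix (Fin 2) (Fin 2) K) (u : K × K) : K × K := (M 0 0 * u.1 + M 0 1 * u.2, M 1 0 * u.1 + M 1 1 * u.2)

/-- the shear -/
def sh (ψ : K →+ K) (u : K × K) : K × K := (u.1 + ψ u.2, u.2)

end Basic

/-- The hypotheses: `TG K` is a Sylow `p`-subgroup of `G` and not normal. -/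
structure Hyp (K : Type u) [Field K] (p : ℕ) (G : Subgroup (A2 K)) : Prop where
  fin : Finite K
  pp : p.Prime
  char : CharP K p
  le : TG K ≤ G
  max : ∀ P : Subgroup (A2 K), P ≤ G → IsPGroup p P → TG K ≤ P → P ≤ TG K
  nn : ∃ g ∈ G, ∃ t ∈ TG K, g * t * g⁻¹ ∉ TG K

namespace Hyp

variable {K : Type u} [Field K] {p : ℕ} {G : Subgroup (A2 K)} (h : Hyp K p G)
include h

theorem smul_zero' (u : K × K) : p • u = 0 := by
  have := h.char
  ext
  · rw [Prod.smul_fst, nsmul_eq_mul, CharP.cast_eq_zero, zero_mul]; rfl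
  · rw [Prod.smul_snd, nsmul_eq_mul, CharP.cast_eq_zero, zero_mul]; rfl

/-- the group of the elements which act trivially on `U₀`, `U/U₀` -/
theorem pgroup_unip : ∃ P : Subgroup (A2 K), IsPGroup p P ∧ P ≤ G ∧
    ∀ g, g ∈ P ↔ g ∈ G ∧ (∀ u, (g u).2 = u.2) ∧ ∀ x : K, g (x, 0) = (x, 0) := by
  refine ⟨{ carrier := {g | g ∈ G ∧ (∀ u, (g u).2 = u.2) ∧ ∀ x : K, g (x, 0) = (x, 0)},
            one_mem' := ⟨one_mem _, fun _ => rfl, fun _ => rfl⟩,
            mul_mem' := ?_, inv_mem' := ?_ }, ?_, fun g hg => hg.1, fun g => Iff.rfl⟩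
  · rintro a b ⟨ha, ha2, ha0⟩ ⟨hb, hb2, hb0⟩
    refine ⟨mul_mem ha hb, fun u => ?_, fun x => ?_⟩
    · rw [LinearEquiv.mul_apply, ha2, hb2]
    · rw [LinearEquiv.mul_apply, hb0, ha0]
  · rintro a ⟨ha, ha2, ha0⟩
    refine ⟨inv_mem ha, fun u => ?_, fun x => ?_⟩
    · have := ha2 (a⁻¹ u)
      rw [ai] at this
      exact this.symm
    · apply a.injective
      rw [ai, ha0]
  · rintro ⟨g, hg, h2, h0⟩
    refine ⟨1, ?_⟩
    apply Subtype.ext
    show g ^ p ^ 1 = 1
    rw [pow_one]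
    have key : ∀ (k : ℕ) (u : K × K), (g ^ k) u = u + k • (g u - u) := by
      intro k
      induction k with
      | zero => intro u; rw [pow_zero, zero_smul, add_zero]; rfl
      | succ k ih =>
        intro u
        have h3 : (g u - u).2 = 0 := by rw [Prod.snd_sub, h2, sub_self]
        have h4 : g (k • (g u - u)) = k • (g u - u) := by
          have h5 : k • (g u - u) = ((k • (g u - u)).1, 0) := by
            ext
            · rfl
            · rw [Prod.smul_snd, h3, smul_zero]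
          rw [h5, h0]
        rw [pow_succ', LinearEquiv.mul_apply, ih, map_add, h4, add_smul, one_smul]
        abel
    apply ext'
    intro u
    rw [key, h.smul_zero', add_zero]
    rfl

/-- **TI.** -/
theorem ti {g : A2 K} (hg : g ∈ G) {t : A2 K} (ht : t ∈ TG K) (ht1 : t ≠ 1)
    (hgt : g * t * g⁻¹ ∈ TG K) : ∀ s ∈ TG K, g * s * g⁻¹ ∈ TG K := by
  obtain ⟨r, rfl⟩ := ht
  obtain ⟨s, hs⟩ := hgt
  have hr : r ≠ 0 := by rintro rfl; exact ht1 tau_zero
  have hs0 : s ≠ 0 := by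
    rintro rfl
    rw [tau_zero, mul_inv_eq_one] at hs
    exact ht1 (mul_eq_left.mp hs)
  have hfix : ∀ {r : K}, r ≠ 0 → ∀ u : K × K, tau r u = u ↔ u.2 = 0 := by
    intro r hr u
    rw [tau_apply, Prod.ext_iff]
    simp only [add_eq_left, mul_eq_zero, hr, false_or, and_true]
  have hU : ∀ u : K × K, (g u).2 = 0 ↔ u.2 = 0 := by
    intro u
    rw [← hfix hs0, ← hfix hr, ← hs, LinearEquiv.mul_apply, LinearEquiv.mul_apply, ia]
    exact g.injective.eq_iff
  have hU' : ∀ u : K × K, (g⁻¹ u).2 = 0 ↔ u.2 = 0 := by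
    intro u
    rw [← hU, ai]
  obtain ⟨P, hP, hPG, hmem⟩ := h.pgroup_unip
  have hTP : TG K ≤ P := by
    rintro _ ⟨a, rfl⟩
    rw [hmem]
    refine ⟨h.le (tau_mem a), fun u => rfl, fun x => ?_⟩
    rw [tau_apply, mul_zero, add_zero]
  have hPT := h.max P hPG hP hTP
  intro t ht
  apply hPT
  rw [hmem]
  obtain ⟨-, h2, h0⟩ := (hmem t).1 (hTP ht)
  refine ⟨mul_mem (mul_mem hg (h.le ht)) (inv_mem hg), fun u => ?_, fun x => ?_⟩
  · have h3 : (t (g⁻¹ u) - g⁻¹ u).2 = 0 := by rw [Prod.snd_sub, h2, sub_self]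
    have h4 := (hU _).2 h3
    rw [map_sub, ai, Prod.snd_sub, sub_eq_zero] at h4
    exact h4
  · have h3 : (g⁻¹ (x, 0)).2 = 0 := (hU' _).2 rfl
    have h4 : g⁻¹ (x, 0) = ((g⁻¹ (x, 0)).1, 0) := Prod.ext rfl h3
    rw [LinearEquiv.mul_apply, LinearEquiv.mul_apply, h4, h0, ← h4, ai]

theorem finite_A2 : Finite (A2 K) := by
  have := h.fin
  exact Finite.of_injective (fun g : A2 K => (g : K × K → K × K)) DFunLike.coe_injective

theorem mem_normalizer {q : A2 K} (hn : ∀ t ∈ TG K, q * t * q⁻¹ ∈ TG K) :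
    q ∈ Subgroup.normalizer ((TG K : Subgroup (A2 K)) : Set (A2 K)) := by
  have := h.finite_A2
  exact Subgroup.mem_normalizer_fintype (S := ((TG K : Subgroup (A2 K)) : Set (A2 K))) hn

theorem isPGroup_TG : IsPGroup p (TG K) := by
  obtain ⟨P, hP, hPG, hmem⟩ := h.pgroup_unip
  refine hP.to_le ?_
  rintro _ ⟨a, rfl⟩
  rw [hmem]
  refine ⟨h.le (tau_mem a), fun u => rfl, fun x => ?_⟩
  rw [tau_apply, mul_zero, add_zero]

/-- a `p`-element of `G` which normalizes `TG K` lies in it -/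
theorem mem_of_norm {q : A2 K} (hq : q ∈ G) (hp : ∃ k, q ^ p ^ k = 1) (hn : ∀ t ∈ TG K, q * t * q⁻¹ ∈ TG K) :
    q ∈ TG K := by
  have := h.finite_A2
  have : Fact p.Prime := ⟨h.pp⟩
  have hn' := h.mem_normalizer hn
  obtain ⟨k, hk⟩ := hp
  have h1 : IsPGroup p (Subgroup.zpowers q) := by
    rintro ⟨x, m, rfl⟩
    refine ⟨k, Subtype.ext ?_⟩
    show (q ^ m) ^ p ^ k = 1
    rw [← zpow_natCast, ← _root_.zpow_mul, mul_comm, _root_.zpow_mul, zpow_natCast, hk, _root_.one_zpow]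
  have h2 := h1.to_sup_of_normal_right' h.isPGroup_TG ((Subgroup.zpowers_le).2 hn')
  have h3 := h.max _ (sup_le ((Subgroup.zpowers_le).2 hq) h.le) h2 le_sup_right
  exact h3 ((le_sup_left : Subgroup.zpowers q ≤ _) (Subgroup.mem_zpowers q))

/-- **The identification.** -/
theorem exists_glob : ∃ (F : Type) (_ : Field F) (_ : Fintype F), Fintype.card F = Nat.card K ∧
      ∃ (ρ : LG G →* Matrix.SpecialLinearGroup (Fin 2) F) (e : (K × K) ≃+ (Fin 2 → F)),
        Function.Bijective ρ ∧ (∀ (l : LG G) (m : K × K), e ((l : A2 K) m) =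
          (ρ l : Matrix (Fin 2) (Fin 2) F).mulVec (e m)) := by
  classical
  have := h.finite_A2
  have hfin := h.fin
  have : Fact p.Prime := ⟨h.pp⟩
  let A : Subgroup (LG G) := (TG K).subgroupOf (LG G)
  let X : Subgroup (LG G) := Subgroup.normalizer (A : Set (LG G))
  have hmemA : ∀ x : LG G, x ∈ A ↔ (x : A2 K) ∈ TG K := fun x => Subgroup.mem_subgroupOf
  have hmemX : ∀ x : LG G, x ∈ X ↔ ∀ t ∈ TG K, (x : A2 K) * t * (x : A2 K)⁻¹ ∈ TG K := by
    intro x
    constructor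
    · intro hx t ht
      have h1 := (Subgroup.mem_normalizer_iff.1 hx ⟨t, TG_le_LG G ht⟩).1 ((hmemA _).2 ht)
      exact (hmemA _).1 h1
    · intro hx
      apply Subgroup.mem_normalizer_fintype
      intro n hn
      exact (hmemA _).2 (hx n ((hmemA _).1 hn))
  have hAcard : Nat.card A = Nat.card K := by
    rw [← card_TG (K := K)]
    exact Nat.card_congr (Subgroup.subgroupOfEquivOfLe (TG_le_LG G)).toEquiv
  have hfx : ∀ m : K × K, m ∈ fx (K × K) A ↔ m.2 = 0 := by
    intro m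
    constructor
    · intro hm
      have h1 : tau 1 m = m := hm ⟨tau 1, TG_le_LG G (tau_mem 1)⟩ ((hmemA _).2 (tau_mem 1))
      have h2 := congrArg Prod.fst h1
      rw [tau_apply, one_mul] at h2
      simpa using h2
    · rintro hm ⟨a, ha⟩ haA
      obtain ⟨r, rfl⟩ := (hmemA _).1 haA
      show tau r m = m
      rw [tau_apply, hm, mul_zero, add_zero, ← hm]
  have hfxc : Nat.card (fx (K × K) A) = Nat.card K := by
    refine Nat.card_congr ⟨fun m => (m : K × K).1, fun x => ⟨(x, 0), (hfx _).2 rfl⟩, ?_, fun x => rfl⟩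
    intro m
    exact Subtype.ext (Prod.ext rfl ((hfx _).1 m.2).symm)
  have hglob : GlobHyp p (K × K) A X := by
    refine ⟨h.smul_zero', ?_, Subgroup.le_normalizer, ?_, ?_, ?_, ?_, ?_, ?_⟩
    · exact h.isPGroup_TG.comap_subtype
    · rintro ⟨a, ha⟩ haA m
      obtain ⟨r, rfl⟩ := (hmemA _).1 haA
      rw [hfx]
      show (tau r m - m).2 = 0
      rw [Prod.snd_sub, tau_apply, sub_self]
    · rw [Nat.card_prod, hAcard, hfxc]
    · -- not normal
      by_contra hcon
      push Not at hcon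
      obtain ⟨g, hg, t, ht, hgt⟩ := h.nn
      apply hgt
      have hp : ∃ k, (g * t * g⁻¹) ^ p ^ k = 1 := by
        obtain ⟨k, hk⟩ := h.isPGroup_TG ⟨t, ht⟩
        have hk' : t ^ p ^ k = 1 := congrArg Subtype.val hk
        refine ⟨k, ?_⟩
        rw [conj_pow, hk', mul_one, mul_inv_cancel]
      exact h.mem_of_norm (LG_le h.le (conj_mem_LG hg ht)) hp ((hmemX ⟨_, conj_mem_LG hg ht⟩).1 (hcon _))
    · intro l hl
      apply Subtype.ext
      apply ext'
      exact hl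
    · refine ⟨⟨tau 1, TG_le_LG G (tau_mem 1)⟩, (hmemA _).2 (tau_mem 1), fun h1 => ?_⟩
      have h2 : tau (1 : K) = tau 0 := by rw [tau_zero]; exact congrArg Subtype.val h1
      exact one_ne_zero (tau_injective h2)
    · rintro q hqX hq1 ⟨k, hk⟩ g hgX hgq
      apply hgX
      rw [hmemX]
      have hqT : (q : A2 K) ∈ TG K :=
        h.mem_of_norm (LG_le h.le q.2) ⟨k, congrArg Subtype.val hk⟩ ((hmemX q).1 hqX)
      have hk2 : (g * q * g⁻¹) ^ p ^ k = 1 := by rw [conj_pow, hk, mul_one, mul_inv_cancel]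
      have hgqT : ((g * q * g⁻¹ : LG G) : A2 K) ∈ TG K :=
        h.mem_of_norm (LG_le h.le (g * q * g⁻¹).2) ⟨k, congrArg Subtype.val hk2⟩ ((hmemX _).1 hgq)
      refine h.ti (LG_le h.le g.2) hqT ?_ hgqT
      intro h1
      exact hq1 (Subtype.ext h1)
  have hgen : Subgroup.closure {q : LG G | ∃ k, q ^ p ^ k = 1} = ⊤ := by
    rw [eq_top_iff]
    rintro ⟨x, hx⟩ -
    have key : LG G ≤ (Subgroup.closure {q : LG G | ∃ k, q ^ p ^ k = 1}).map (LG G).subtype := by
      refine (Subgroup.closure_le _).2 ?_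
      rintro _ ⟨g, hg, t, ht, rfl⟩
      refine ⟨⟨g * t * g⁻¹, conj_mem_LG hg ht⟩, Subgroup.subset_closure ?_, rfl⟩
      obtain ⟨k, hk⟩ := h.isPGroup_TG ⟨t, ht⟩
      have hk' : t ^ p ^ k = 1 := congrArg Subtype.val hk
      refine ⟨k, Subtype.ext ?_⟩
      show (g * t * g⁻¹) ^ p ^ k = 1
      rw [conj_pow, hk', mul_one, mul_inv_cancel]
    obtain ⟨y, hy, hyx⟩ := key hx
    have : y = ⟨x, hx⟩ := Subtype.ext hyx
    rw [← this]
    exact hy
  obtain ⟨F, iF, iFin, hFc, ρ, e, hρ, he⟩ := hglob.main hgen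
  rw [hAcard] at hFc
  -- the fixed points are trivial
  have hbot : fx (K × K) (⊤ : Subgroup (LG G)) = ⊥ := by
    have h1 : Nat.card ((K × K) ⧸ fx (K × K) (⊤ : Subgroup (LG G))) = Nat.card (K × K) := by
      rw [Nat.card_congr e.toEquiv, Nat.card_fun, Nat.card_prod, Nat.card_eq_fintype_card (α := F), hFc,
        Nat.card_eq_fintype_card (α := Fin 2), Fintype.card_fin, sq]
    have h2 := AddSubgroup.card_eq_card_quotient_mul_card_addSubgroup (fx (K × K) (⊤ : Subgroup (LG G)))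
    rw [h1] at h2
    have h3 : 0 < Nat.card (K × K) := Nat.card_pos
    have h4 : Nat.card (fx (K × K) (⊤ : Subgroup (LG G))) = 1 := by
      have h5 : Nat.card (K × K) * Nat.card (fx (K × K) (⊤ : Subgroup (LG G))) = Nat.card (K × K) * 1 := by
        rw [mul_one]; exact h2.symm
      exact Nat.eq_of_mul_eq_mul_left h3 h5
    exact AddSubgroup.eq_bot_of_card_eq _ h4
  refine ⟨F, iF, iFin, hFc, ρ, ((QuotientAddGroup.quotientAddEquivOfEq hbot).trans
    QuotientAddGroup.quotientBot).symm.trans e, hρ, ?_⟩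
  intro l m
  have h1 : ∀ m : K × K, ((QuotientAddGroup.quotientAddEquivOfEq hbot).trans
      QuotientAddGroup.quotientBot).symm m = QuotientAddGroup.mk m := by
    intro m
    rw [AddEquiv.symm_apply_eq]
    rfl
  rw [AddEquiv.trans_apply, AddEquiv.trans_apply, h1, h1]
  exact he l m

omit h in
theorem exists_to_one {F : Type*} [Field F] {w : Fin 2 → F} (hw : w ≠ 0) :
    ∃ N : Matrix.SpecialLinearGroup (Fin 2) F, (N : Matrix (Fin 2) (Fin 2) F) *ᵥ w = ![1, 0] := by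
  by_cases h0 : w 0 = 0
  · have h1 : w 1 ≠ 0 := by
      intro h1
      apply hw
      funext i
      fin_cases i
      · exact h0
      · exact h1
    refine ⟨⟨!![0, (w 1)⁻¹; - w 1, 0], ?_⟩, ?_⟩
    · rw [Matrix.det_fin_two_of]
      field_simp
      ring
    · funext i
      fin_cases i
      · simp [Matrix.mulVec, dotProduct, Fin.sum_univ_two, h0, h1]
      · simp [Matrix.mulVec, dotProduct, Fin.sum_univ_two, h0]
  · refine ⟨⟨!![(w 0)⁻¹, 0; - w 1, w 0], ?_⟩, ?_⟩
    · rw [Matrix.det_fin_two_of]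
      field_simp
      ring
    · funext i
      fin_cases i
      · simp [Matrix.mulVec, dotProduct, Fin.sum_univ_two, h0]
      · simp [Matrix.mulVec, dotProduct, Fin.sum_univ_two]
        ring

/-- **`L` is conjugate to `SL₂(K)` by a shear.** -/
theorem exists_shear : ∃ ψ : K →+ K,
    (∀ M : Matrix.SpecialLinearGroup (Fin 2) K, ∃ l ∈ LG G, ∀ u, sh ψ (l u) = ml (M : Matrix (Fin 2) (Fin 2) K) (sh ψ u)) ∧
    (∀ l ∈ LG G, ∃ M : Matrix.SpecialLinearGroup (Fin 2) K, ∀ u,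
      sh ψ (l u) = ml (M : Matrix (Fin 2) (Fin 2) K) (sh ψ u)) := by
  have hfin := h.fin
  obtain ⟨F, iF, iFin, hFc, ρ, e, hρ, he⟩ := h.exists_glob
  have hw : e (1, 0) ≠ 0 := by
    rw [Ne, map_eq_zero_iff e e.injective]
    intro h1
    exact one_ne_zero (congrArg Prod.fst h1)
  obtain ⟨N, hN⟩ := exists_to_one hw
  -- new coordinates
  obtain ⟨e2, he2⟩ : ∃ e2 : K × K → (Fin 2 → F), ∀ u, e2 u = (N : Matrix (Fin 2) (Fin 2) F) *ᵥ e u := ⟨_, fun _ => rfl⟩
  have he2a : ∀ u v, e2 (u + v) = e2 u + e2 v := by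
    intro u v
    rw [he2, he2, he2, map_add, mulVec_add]
  have he2l : ∀ (l : LG G) (u : K × K), e2 ((l : A2 K) u) =
      ((N * ρ l * N⁻¹ : Matrix.SpecialLinearGroup (Fin 2) F) : Matrix (Fin 2) (Fin 2) F) *ᵥ e2 u := by
    intro l u
    rw [he2, he2, he, mulVec_mulVec, mulVec_mulVec, Matrix.SpecialLinearGroup.coe_mul,
      Matrix.SpecialLinearGroup.coe_mul, Matrix.mul_assoc, Matrix.mul_assoc, ← Matrix.SpecialLinearGroup.coe_mul N⁻¹ N,
      inv_mul_cancel, Matrix.SpecialLinearGroup.coe_one, Matrix.mul_one]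
  have he21 : e2 (1, 0) = ![1, 0] := by rw [he2, hN]
  obtain ⟨P, hP⟩ : ∃ P : K → Matrix.SpecialLinearGroup (Fin 2) F, ∀ r u, e2 (tau r u) =
      (P r : Matrix (Fin 2) (Fin 2) F) *ᵥ e2 u :=
    ⟨fun r => N * ρ ⟨tau r, TG_le_LG G (tau_mem r)⟩ * N⁻¹, fun r u => he2l ⟨tau r, TG_le_LG G (tau_mem r)⟩ u⟩
  have hmv : ∀ (M : Matrix (Fin 2) (Fin 2) F) (x : Fin 2 → F), (M *ᵥ x) 0 = M 0 0 * x 0 + M 0 1 * x 1 ∧
      (M *ᵥ x) 1 = M 1 0 * x 0 + M 1 1 * x 1 := by
    intro M x
    simp [Matrix.mulVec, dotProduct, Fin.sum_univ_two]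
  have hP0 : ∀ r, (P r : Matrix (Fin 2) (Fin 2) F) 0 0 = 1 ∧ (P r : Matrix (Fin 2) (Fin 2) F) 1 0 = 0 ∧
      (P r : Matrix (Fin 2) (Fin 2) F) 1 1 = 1 := by
    intro r
    have h1 := hP r (1, 0)
    rw [tau_apply, mul_zero, add_zero, he21] at h1
    have h2 := congrFun h1 0
    have h3 := congrFun h1 1
    rw [(hmv _ _).1] at h2
    rw [(hmv _ _).2] at h3
    have h4 : (P r : Matrix (Fin 2) (Fin 2) F) 0 0 = 1 := by simpa using h2.symm
    have h5 : (P r : Matrix (Fin 2) (Fin 2) F) 1 0 = 0 := by simpa using h3.symm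
    have h6 := (P r).det_coe
    rw [Matrix.det_fin_two, h4, h5, one_mul, mul_zero, sub_zero] at h6
    exact ⟨h4, h5, h6⟩
  obtain ⟨f, hf⟩ : ∃ f : K → F, ∀ r, f r = (P r : Matrix (Fin 2) (Fin 2) F) 0 1 := ⟨_, fun _ => rfl⟩
  have hsplit : ∀ x y : K, e2 (x, y) = e2 (x, 0) + e2 (0, y) := by
    intro x y
    rw [← he2a]
    congr 1
    ext <;> simp
  have hk : ∀ r s : K, e2 (r * s, 0) 0 = f r * e2 (0, s) 1 ∧ e2 (r * s, 0) 1 = 0 := by
    intro r s
    have h1 := hP r (0, s)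
    rw [tau_apply, zero_add, hsplit] at h1
    have h2 := congrFun h1 0
    have h3 := congrFun h1 1
    rw [(hmv _ _).1, (hP0 r).1, ← hf, Pi.add_apply] at h2
    rw [(hmv _ _).2, (hP0 r).2.1, (hP0 r).2.2, Pi.add_apply] at h3
    exact ⟨by linear_combination h2, by linear_combination h3⟩
  obtain ⟨α, hα⟩ : ∃ α : K → F, ∀ x, α x = e2 (x, 0) 0 := ⟨_, fun _ => rfl⟩
  obtain ⟨β, hβ⟩ : ∃ β : K → F, ∀ x, β x = e2 (0, x) 1 := ⟨_, fun _ => rfl⟩
  have hα1 : α 1 = 1 := by rw [hα, he21]; rfl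
  have hfb : ∀ r s, α (r * s) = f r * β s := by intro r s; rw [hα, hβ]; exact (hk r s).1
  have hY0 : ∀ x, e2 (x, 0) 1 = 0 := by
    intro x
    have := (hk x 1).2
    rwa [mul_one] at this
  have h11 : f 1 * β 1 = 1 := by rw [← hfb, mul_one, hα1]
  have hαr : ∀ r, α r = f r * β 1 := by intro r; rw [← hfb, mul_one]
  have hαs : ∀ s, α s = f 1 * β s := by intro s; rw [← hfb, one_mul]
  have hαm : ∀ r s, α (r * s) = α r * α s := by
    intro r s
    rw [hfb, hαr r, hαs s]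
    linear_combination (-(f r * β s)) * h11
  have hαa : ∀ r s, α (r + s) = α r + α s := by
    intro r s
    rw [hα, hα, hα, ← Pi.add_apply, ← he2a, Prod.mk_add_mk, add_zero]
  have hα0 : α 0 = 0 := by
    have := hαa 0 0
    rw [add_zero] at this
    exact (add_eq_left.1 this.symm)
  let φ0 : K →+* F := { toFun := α, map_one' := hα1, map_mul' := hαm, map_zero' := hα0, map_add' := hαa }
  have hbij : Function.Bijective φ0 := by
    have : Fintype K := Fintype.ofFinite K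
    rw [Fintype.bijective_iff_injective_and_card]
    exact ⟨φ0.injective, by rw [hFc, Nat.card_eq_fintype_card]⟩
  let φ : K ≃+* F := RingEquiv.ofBijective φ0 hbij
  have hφ : ∀ x, φ x = e2 (x, 0) 0 := fun x => hα x
  obtain ⟨b, hb⟩ : ∃ b, b = β 1 := ⟨_, rfl⟩
  have hb0 : b ≠ 0 := by
    rw [hb]
    intro h1
    rw [h1, mul_zero] at h11
    exact zero_ne_one h11
  have hβb : ∀ s, e2 (0, s) 1 = b * φ s := by
    intro s
    have e1 : φ s = f 1 * β s := hαs s
    rw [e1, hb, ← hβ]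
    linear_combination (-(β s)) * h11
  let ψ : K →+ K := AddMonoidHom.mk' (fun s => φ.symm (e2 (0, s) 0)) (by
    intro s t
    rw [← map_add, ← Pi.add_apply, ← he2a, Prod.mk_add_mk, add_zero])
  have hψ : ∀ s, φ (ψ s) = e2 (0, s) 0 := fun s => φ.apply_symm_apply _
  have hx : ∀ u, e2 u 0 = φ (sh ψ u).1 := by
    rintro ⟨x, y⟩
    rw [hsplit, Pi.add_apply, ← hφ, ← hψ, ← map_add]
    rfl
  have hy : ∀ u, e2 u 1 = b * φ (sh ψ u).2 := by
    rintro ⟨x, y⟩
    rw [hsplit, Pi.add_apply, hY0, zero_add, hβb]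
    rfl
  have hφ2 : ∀ x y z w : K, φ (x * y + z * w) = φ x * φ y + φ z * φ w := by
    intro x y z w
    rw [map_add, map_mul, map_mul]
  refine ⟨ψ, ?_, ?_⟩
  · intro M
    have hdet := M.det_coe
    rw [Matrix.det_fin_two] at hdet
    obtain ⟨X, hX⟩ : ∃ X : Matrix.SpecialLinearGroup (Fin 2) F, (X : Matrix (Fin 2) (Fin 2) F) =
      !![φ ((M : Matrix (Fin 2) (Fin 2) K) 0 0), φ ((M : Matrix (Fin 2) (Fin 2) K) 0 1) * b⁻¹;
      b * φ ((M : Matrix (Fin 2) (Fin 2) K) 1 0), φ ((M : Matrix (Fin 2) (Fin 2) K) 1 1)] := by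
        refine ⟨⟨_, ?_⟩, rfl⟩
        rw [Matrix.det_fin_two_of]
        have h1 := congrArg φ hdet
        rw [map_sub, map_mul, map_mul, map_one] at h1
        field_simp
        linear_combination h1
    obtain ⟨l, hl⟩ := hρ.2 (N⁻¹ * X * N)
    refine ⟨l, l.2, fun u => ?_⟩
    have h1 := he2l l u
    rw [hl] at h1
    have h2 : N * (N⁻¹ * X * N) * N⁻¹ = X := by group
    rw [h2, hX] at h1
    have h3 := congrFun h1 0
    have h4 := congrFun h1 1
    rw [(hmv _ _).1, hx, hx, hy] at h3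
    rw [(hmv _ _).2, hy, hx, hy] at h4
    simp only [Matrix.of_apply, Matrix.cons_val', Matrix.cons_val_zero, Matrix.cons_val_one, Matrix.cons_val_fin_one] at h3 h4
    apply Prod.ext
    · apply φ.injective
      rw [h3]
      show _ = φ ((M : Matrix (Fin 2) (Fin 2) K) 0 0 * _ + (M : Matrix (Fin 2) (Fin 2) K) 0 1 * _)
      rw [hφ2]
      field_simp
    · apply φ.injective
      show _ = φ ((M : Matrix (Fin 2) (Fin 2) K) 1 0 * _ + (M : Matrix (Fin 2) (Fin 2) K) 1 1 * _)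
      rw [hφ2]
      apply mul_left_cancel₀ hb0
      rw [h4]
      ring
  · intro l hl
    obtain ⟨R, hR⟩ : ∃ R, R = N * ρ ⟨l, hl⟩ * N⁻¹ := ⟨_, rfl⟩
    have hdet := R.det_coe
    rw [Matrix.det_fin_two] at hdet
    refine ⟨⟨!![φ.symm ((R : Matrix (Fin 2) (Fin 2) F) 0 0), φ.symm ((R : Matrix (Fin 2) (Fin 2) F) 0 1 * b);
      φ.symm (b⁻¹ * (R : Matrix (Fin 2) (Fin 2) F) 1 0), φ.symm ((R : Matrix (Fin 2) (Fin 2) F) 1 1)], ?_⟩, fun u => ?_⟩
    · rw [Matrix.det_fin_two_of]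
      apply φ.injective
      rw [map_sub, map_mul, map_mul, map_one, φ.apply_symm_apply, φ.apply_symm_apply, φ.apply_symm_apply,
        φ.apply_symm_apply]
      field_simp
      linear_combination hdet
    · have h1 := he2l ⟨l, hl⟩ u
      rw [← hR] at h1
      have h3 := congrFun h1 0
      have h4 := congrFun h1 1
      rw [(hmv _ _).1, hx, hx, hy] at h3
      rw [(hmv _ _).2, hy, hx, hy] at h4
      apply Prod.ext
      · apply φ.injective
        show φ (sh ψ (l u)).1 = φ (φ.symm ((R : Matrix (Fin 2) (Fin 2) F) 0 0) * _ +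
          φ.symm ((R : Matrix (Fin 2) (Fin 2) F) 0 1 * b) * _)
        rw [hφ2, φ.apply_symm_apply, φ.apply_symm_apply]
        refine h3.trans ?_
        ring
      · apply φ.injective
        show φ (sh ψ (l u)).2 = φ (φ.symm (b⁻¹ * (R : Matrix (Fin 2) (Fin 2) F) 1 0) * _ +
          φ.symm ((R : Matrix (Fin 2) (Fin 2) F) 1 1) * _)
        rw [hφ2, φ.apply_symm_apply, φ.apply_symm_apply]
        apply mul_left_cancel₀ hb0
        refine h4.trans ?_
        field_simp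

end Hyp

end Cfsg.Agent.H7.PU.Core
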