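import Cfsg.Agent.H7.PU.Pi

/-!
# S5258: the statement `StL2a` (helper7)
-/

set_option autoImplicit false
set_option linter.unusedSectionVars false

namespace Cfsg.Agent.H7.PU.LTwoA

open Matrix Cfsg Cfsg.Agent.H756.PU Cfsg.Agent.H7.PU.Core Cfsg.Agent.H7.PU.Pi Cfsg.Agent.H7.PU.Shear
open Cfsg.Agent.H802 (exists_conjAut mem_autInducedBy_iff)

universe u

variable {K : Type u} [Field K] [StarRing K] {p n : ℕ}

section Gamma

variable (h : HypK K p n) {Γ : Subgroup (MulAut (Q2 K))} {D : Subgroup (MulAut (UG K))} (hp : Par p (Q2 K) Γ D)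
include h hp

theorem finite_UG : Finite (UG K) := by
  have := h.fin
  refine Finite.of_injective (fun x : UG K => (x.r, x.u1, x.u2, x.a, x.b, x.c)) ?_
  intro x y hxy
  simp only [Prod.mk.injEq] at hxy
  obtain ⟨h1, h2, h3, h4, h5, h6⟩ := hxy
  exact UG.ext h1 h2 h3 h4 h5 h6

theorem finite_aut : Finite (MulAut (Q2 K)) := by
  have := finite_UG h hp
  exact Finite.of_injective (fun e : MulAut (Q2 K) => (e : Q2 K → Q2 K)) DFunLike.coe_injective

/-- the kernel lies in `Aut_S(Q₂)` -/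
theorem ker_le {γ : MulAut (Q2 K)} (hγ : γ ∈ Γ) (h1 : pi h γ = 1) : γ ∈ autInducedBy ⊤ (Q2 K) := by
  have hP : IsPGroup p ↥(Γ ⊓ (pi h).ker) := by
    rintro ⟨x, hx, hx1⟩
    exact ⟨1, Subtype.ext (by rw [pow_one]; exact ker_pow h hx1)⟩
  obtain ⟨g, hg, hs⟩ := hp.syl _ inf_le_left hP
  have h2 : g⁻¹ * γ * g ∈ Γ ⊓ (pi h).ker := by
    refine Subgroup.mem_inf.2 ⟨mul_mem (mul_mem (inv_mem hg) hγ) hg, ?_⟩
    show pi h (g⁻¹ * γ * g) = 1
    rw [map_mul, map_mul, map_inv, h1, mul_one, inv_mul_cancel]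
  have h3 := hs _ h2
  have h4 : g * (g⁻¹ * γ * g) * g⁻¹ = γ := by group
  rwa [h4] at h3

theorem mem_aut_iff {γ : MulAut (Q2 K)} (hγ : γ ∈ Γ) : pi h γ ∈ TG K ↔ γ ∈ autInducedBy ⊤ (Q2 K) := by
  constructor
  · intro h1
    obtain ⟨x, hx, hxγ⟩ := exists_of_mem_TG h h1
    have h2 : x⁻¹ * γ ∈ autInducedBy ⊤ (Q2 K) := by
      apply ker_le h hp (mul_mem (inv_mem (hp.indu hx)) hγ)
      rw [map_mul, map_inv, hxγ, inv_mul_cancel]
    have h3 := mul_mem hx h2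
    rwa [mul_inv_cancel_left] at h3
  · intro h1
    exact pi_mem_TG h h1

/-- **The hypotheses of `Core`.** -/
theorem hyp : Hyp K p (Γ.map (pi h)) := by
  have := finite_aut h hp
  refine ⟨h.fin, h.pp, h.char, ?_, ?_, ?_⟩
  · intro g hg
    obtain ⟨x, hx, rfl⟩ := exists_of_mem_TG h hg
    exact ⟨x, hp.indu hx, rfl⟩
  · intro P hPG hP hTP
    have hP' : IsPGroup p ↥(Γ ⊓ P.comap (pi h)) := by
      rintro ⟨x, hx, hx1⟩
      obtain ⟨k, hk⟩ := hP ⟨pi h x, hx1⟩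
      have hk' : pi h x ^ p ^ k = 1 := congrArg Subtype.val hk
      refine ⟨k + 1, Subtype.ext ?_⟩
      show x ^ p ^ (k + 1) = 1
      rw [pow_succ, pow_mul]
      apply ker_pow h
      rw [map_pow, hk']
    obtain ⟨g, hg, hs⟩ := hp.syl _ inf_le_left hP'
    have hA : autInducedBy ⊤ (Q2 K) ≤ Γ ⊓ P.comap (pi h) := fun x hx =>
      ⟨hp.indu hx, hTP (pi_mem_TG h hx)⟩
    have hcard : Nat.card ↥(Γ ⊓ P.comap (pi h)) ≤ Nat.card ↥(autInducedBy ⊤ (Q2 K)) := by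
      refine Nat.card_le_card_of_injective (fun x => ⟨g * x.1 * g⁻¹, hs x.1 x.2⟩) ?_
      intro x y hxy
      have h1 : g * x.1 * g⁻¹ = g * y.1 * g⁻¹ := congrArg Subtype.val hxy
      exact Subtype.ext (mul_left_cancel (mul_right_cancel h1))
    have heq := Subgroup.eq_of_le_of_card_ge hA hcard
    intro y hy
    obtain ⟨x, hx, rfl⟩ := hPG hy
    have h2 : x ∈ Γ ⊓ P.comap (pi h) := ⟨hx, hy⟩
    rw [← heq] at h2
    exact pi_mem_TG h h2
  · by_contra hno
    push Not at hno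
    apply hp.nn
    intro γ hγ x hx
    have h1 := hno (pi h γ) ⟨γ, hγ, rfl⟩ (pi h x) (pi_mem_TG h hx)
    rw [← map_inv, ← map_mul, ← map_mul] at h1
    exact (mem_aut_iff h hp (mul_mem (mul_mem hγ (hp.indu hx)) (inv_mem hγ))).1 h1

theorem exists_restr (d : MulAut (UG K)) {x1 x2 : K} {τ : K ≃+* K} (hd : IsTor d x1 x2 τ) :
    ∃ δ : MulAut (Q2 K), IsR d δ := by
  have h0 : x1 * x2⁻¹ ≠ 0 := mul_ne_zero hd.ne1 (inv_ne_zero hd.ne2)
  have hmem : ∀ x : UG K, d x ∈ Q2 K ↔ x ∈ Q2 K := by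
    intro x
    show (d x).r = 0 ↔ x.r = 0
    rw [hd.r, mul_eq_zero, map_eq_zero]
    simp [h0]
  refine ⟨{ toFun := fun e => ⟨d e, (hmem _).2 e.2⟩
            invFun := fun e => ⟨d.symm e, (hmem _).1 (by rw [MulEquiv.apply_symm_apply]; exact e.2)⟩
            left_inv := fun e => Subtype.ext (d.symm_apply_apply _)
            right_inv := fun e => Subtype.ext (d.apply_symm_apply _)
            map_mul' := fun x y => Subtype.ext (map_mul d _ _) }, fun e => rfl⟩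

/-- elements which normalize the root group -/
theorem norm_form (hG : StGrp.{u}) {g : A2 K} (hg : g ∈ Γ.map (pi h)) (hn : ∀ t ∈ TG K, g * t * g⁻¹ ∈ TG K) :
    ∃ (r : K) (d : MulAut (UG K)) (x1 x2 : K) (τ : K ≃+* K) (δ : MulAut (Q2 K)), d ∈ D ∧ IsTor d x1 x2 τ ∧ IsR d δ ∧
      g = tau r * pi h δ := by
  obtain ⟨γ, hγ, rfl⟩ := hg
  have h1 : NormAut ⊤ γ := by
    intro x hx
    have h2 := hn _ (pi_mem_TG h hx)
    rw [← map_inv, ← map_mul, ← map_mul] at h2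
    exact (mem_aut_iff h hp (mul_mem (mul_mem hγ (hp.indu hx)) (inv_mem hγ))).1 h2
  obtain ⟨x, d, hd, hx⟩ := hp.norm γ hγ h1
  obtain ⟨x1, x2, τ, hdt⟩ := (hG h).2.2.2.1 d (hp.D_le hd)
  obtain ⟨δ, hδ⟩ := exists_restr h hp d hdt
  refine ⟨x.r, d, x1, x2, τ, δ, hd, hdt, hδ, ?_⟩
  obtain ⟨c, -, hc⟩ := exists_conj_aut x
  rw [← pi_conj h hc, ← map_mul]
  congr 1
  ext1 e
  apply Subtype.ext
  rw [MulAut.mul_apply, hc, hδ, hx]

theorem IsTor_unique {d d' : MulAut (UG K)} {x1 x2 : K} {τ : K ≃+* K} (hd : IsTor d x1 x2 τ) (hd' : IsTor d' x1 x2 τ) :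
    d = d' := by
  ext1 g
  apply UG.ext
  · rw [hd.r, hd'.r]
  · rw [hd.u1, hd'.u1]
  · rw [hd.u2, hd'.u2]
  · rw [hd.a, hd'.a]
  · rw [hd.b, hd'.b]
  · rw [hd.c, hd'.c]

/-- the diagonal elements -/
theorem diag_step (hG : StGrp.{u}) {ψ : K →+ K}
    (h1 : ∀ M : Matrix.SpecialLinearGroup (Fin 2) K, ∃ l ∈ LG (Γ.map (pi h)), ∀ u,
      sh ψ (l u) = ml (M : Matrix (Fin 2) (Fin 2) K) (sh ψ u)) {t : K} (ht : t ≠ 0) :
    (∃ d ∈ D, IsTor d t t⁻¹ (RingEquiv.refl K)) ∧ ∃ r : K, ∀ u : K, r * (t⁻¹ * u) + ψ (t⁻¹ * u) = t * ψ u := by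
  have hH := hyp h hp
  obtain ⟨l, hl, hM⟩ := h1 ⟨!![t, 0; 0, t⁻¹], by rw [Matrix.det_fin_two_of, mul_inv_cancel₀ ht]; ring⟩
  have hM' : ∀ u, sh ψ (l u) = (t * (sh ψ u).1, t⁻¹ * (sh ψ u).2) := by
    intro u
    rw [hM]
    apply Prod.ext
    · show t * _ + 0 * _ = _
      ring
    · show 0 * _ + t⁻¹ * _ = _
      ring
  have hinj : ∀ u v, sh ψ u = sh ψ v → u = v := by
    intro u v huv
    have e2' : (sh ψ u).2 = (sh ψ v).2 := by rw [huv]
    have e1' : (sh ψ u).1 = (sh ψ v).1 := by rw [huv]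
    have e2 : u.2 = v.2 := e2'
    have e1 : u.1 + ψ u.2 = v.1 + ψ v.2 := e1'
    rw [e2] at e1
    exact Prod.ext (add_right_cancel e1) e2
  have htau : ∀ r u, sh ψ (tau r u) = tau r (sh ψ u) := by
    intro r u
    apply Prod.ext
    · show u.1 + r * u.2 + ψ u.2 = u.1 + ψ u.2 + r * u.2
      ring
    · rfl
  have hn : ∀ s ∈ TG K, l * s * l⁻¹ ∈ TG K := by
    rintro _ ⟨r, rfl⟩
    refine ⟨t * r * t, ?_⟩
    rw [mul_inv_eq_iff_eq_mul]
    apply ext'
    intro u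
    rw [LinearEquiv.mul_apply, LinearEquiv.mul_apply]
    apply hinj
    rw [hM', htau, htau, hM']
    apply Prod.ext
    · show t * ((sh ψ u).1 + r * (sh ψ u).2) = t * (sh ψ u).1 + t * r * t * (t⁻¹ * (sh ψ u).2)
      field_simp
    · rfl
  obtain ⟨r, d, x1, x2, τ, δ, hd, hdt, hδ, hlr⟩ := norm_form h hp hG (LG_le hH.le hl) hn
  have hlu : ∀ u : K × K, l u = (x1 * τ u.1 + r * (x2 * τ u.2), x2 * τ u.2) := by
    intro u
    rw [hlr, LinearEquiv.mul_apply, pi_tor h hdt hδ, tau_apply]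
  have hx1 : ∀ x, x1 * τ x = t * x := by
    intro x
    have h2 := congrArg Prod.fst (hM' (x, 0))
    rw [hlu] at h2
    simp only [sh, map_zero, mul_zero, add_zero] at h2
    exact h2
  have hx2 : ∀ x, x2 * τ x = t⁻¹ * x := by
    intro x
    have h2 := congrArg Prod.snd (hM' (0, x))
    rw [hlu] at h2
    exact h2
  have ex1 : x1 = t := by
    have := hx1 1
    rwa [map_one, mul_one, mul_one] at this
  have ex2 : x2 = t⁻¹ := by
    have := hx2 1
    rwa [map_one, mul_one, mul_one] at this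
  have eτ : τ = RingEquiv.refl K := by
    ext x
    have := hx1 x
    rw [ex1] at this
    exact mul_left_cancel₀ ht this
  rw [ex1, ex2, eτ] at hdt
  refine ⟨⟨d, hd, hdt⟩, r, fun u => ?_⟩
  have h2 := congrArg Prod.fst (hM' (0, u))
  rw [hlu] at h2
  simp only [sh, map_zero, mul_zero, zero_add, hx2] at h2
  exact h2

/-- **`ψ` is linear.** -/
theorem linear (hG : StGrp.{u}) (htwo : p ^ n = 2 → HasTor D (fun t => t) (fun _ => 1)) {ψ : K →+ K}
    (h1 : ∀ M : Matrix.SpecialLinearGroup (Fin 2) K, ∃ l ∈ LG (Γ.map (pi h)), ∀ u,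
      sh ψ (l u) = ml (M : Matrix (Fin 2) (Fin 2) K) (sh ψ u))
    (h2 : ∀ l ∈ LG (Γ.map (pi h)), ∃ M : Matrix.SpecialLinearGroup (Fin 2) K, ∀ u,
      sh ψ (l u) = ml (M : Matrix (Fin 2) (Fin 2) K) (sh ψ u)) : ∃ k : K, ∀ u, ψ u = k * u := by
  have := h.fin
  have hH := hyp h hp
  have hpn : 2 ≤ p ^ n := by
    calc 2 ≤ p := h.pp.two_le
      _ ≤ p ^ n := Nat.le_self_pow (by have := h.hn; omega) p
  by_cases hq : p ^ n = 2
  · have hcard : Nat.card K = 4 := by rw [h.card, hq]; norm_num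
    obtain ⟨t, ht0, ht⟩ := exists_sq_ne (K := K) (by omega)
    have ht1 : t ≠ 1 := by
      rintro rfl
      apply ht
      rw [inv_one, sub_self]
    obtain ⟨α, hα⟩ := (hG h).2.2.1 t 1 (RingEquiv.refl K) ht0 one_ne_zero
    have hαD : α ∈ D := htwo hq t ht0 α hα
    obtain ⟨δ, hδ⟩ := exists_restr h hp α hα
    have hδΓ : δ ∈ Γ := hp.D_res α hαD δ hδ
    obtain ⟨w, hw, hwM⟩ := h1 ⟨!![0, 1; -1, 0], by rw [Matrix.det_fin_two_of]; ring⟩
    have hconj := LG_conj (G := Γ.map (pi h)) (g := pi h δ) ⟨δ, hδΓ, rfl⟩ hw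
    obtain ⟨M, hM⟩ := h2 _ hconj
    have hδu : ∀ u : K × K, pi h δ u = (t * u.1, u.2) := by
      intro u
      rw [pi_tor h hα hδ]
      apply Prod.ext
      · rfl
      · show 1 * u.2 = u.2
        rw [one_mul]
    have hδi : ∀ u : K × K, (pi h δ)⁻¹ u = (t⁻¹ * u.1, u.2) := by
      intro u
      apply (pi h δ).injective
      rw [ai, hδu]
      apply Prod.ext
      · show u.1 = t * (t⁻¹ * u.1)
        rw [mul_inv_cancel_left₀ ht0]
      · rfl
    refine lin2 ψ ht0 ht1 (m := (M : Matrix (Fin 2) (Fin 2) K) 1 0) (n := (M : Matrix (Fin 2) (Fin 2) K) 1 1) ?_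
    intro u1 u2
    have h3 := congrArg Prod.snd (hM (u1, u2))
    rw [LinearEquiv.mul_apply, LinearEquiv.mul_apply, hδi] at h3
    have h4 : (w (t⁻¹ * u1, u2)).2 = - (t⁻¹ * u1 + ψ u2) := by
      have h5 := congrArg Prod.snd (hwM (t⁻¹ * u1, u2))
      have h6 : (sh ψ (w (t⁻¹ * u1, u2))).2 = (w (t⁻¹ * u1, u2)).2 := rfl
      rw [h6] at h5
      rw [h5]
      show -1 * (t⁻¹ * u1 + ψ u2) + 0 * u2 = _
      ring
    have h5 : (sh ψ (pi h δ (w (t⁻¹ * u1, u2)))).2 = (w (t⁻¹ * u1, u2)).2 := by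
      rw [hδu]
      rfl
    rw [h5, h4] at h3
    exact h3
  · have hq3 : 3 ≤ p ^ n := by omega
    have hcard : 5 ≤ Nat.card K := by
      rw [h.card]
      nlinarith
    exact lin1 hcard ψ (fun t ht => (diag_step h hp hG h1 ht).2)

omit hp in
/-- `SL₂(K)` is generated by the root group and the Weyl element -/
theorem gen (hG : StGrp.{u}) (M : Matrix.SpecialLinearGroup (Fin 2) K) :
    ∃ l ∈ Lam2 K, ∀ u, pi h l u = ml (M : Matrix (Fin 2) (Fin 2) K) u := by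
  obtain ⟨w, hw⟩ := (hG h).2.2.2.2.1
  have hwL : w ∈ Lam2 K := (le_sup_right : _ ≤ Lam2 K) (Subgroup.subset_closure hw)
  have htau : ∀ r : K, ∃ l ∈ Lam2 K, pi h l = tau r := by
    intro r
    obtain ⟨γ, hγ, hr⟩ := exists_of_mem_TG h (tau_mem r)
    exact ⟨γ, (le_sup_left : _ ≤ Lam2 K) hγ, hr⟩
  have hwi : ∀ u : K × K, (pi h w)⁻¹ u = (- u.2, u.1) := by
    intro u
    apply (pi h w).injective
    rw [ai, pi_w2 h hw]
    apply Prod.ext
    · rfl
    · show u.2 = - - u.2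
      rw [neg_neg]
  have hc : ∀ M : Matrix (Fin 2) (Fin 2) K, M.det = 1 → M 1 0 ≠ 0 → ∃ l ∈ Lam2 K, ∀ u, pi h l u = ml M u := by
    intro M hdet h0
    rw [Matrix.det_fin_two] at hdet
    obtain ⟨l1, hl1, e1⟩ := htau ((M 0 0 - 1) / M 1 0)
    obtain ⟨l2, hl2, e2⟩ := htau (- M 1 0)
    obtain ⟨l3, hl3, e3⟩ := htau ((M 1 1 - 1) / M 1 0)
    refine ⟨l1 * (w * l2 * w⁻¹) * l3, mul_mem (mul_mem hl1 (mul_mem (mul_mem hwL hl2) (inv_mem hwL))) hl3, fun u => ?_⟩
    rw [map_mul, map_mul, map_mul, map_mul, map_inv, e1, e2, e3, LinearEquiv.mul_apply, LinearEquiv.mul_apply,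
      LinearEquiv.mul_apply, LinearEquiv.mul_apply, hwi, pi_w2 h hw]
    apply Prod.ext
    · simp only [tau_apply, ml]
      field_simp
      linear_combination u.2 * hdet
    · simp only [tau_apply, ml]
      field_simp
      ring
  by_cases h0 : (M : Matrix (Fin 2) (Fin 2) K) 1 0 = 0
  · have hdet := M.det_coe
    rw [Matrix.det_fin_two, h0, mul_zero, sub_zero] at hdet
    obtain ⟨l, hl, hlu⟩ := hc !![0, (M : Matrix (Fin 2) (Fin 2) K) 1 1; - (M : Matrix (Fin 2) (Fin 2) K) 0 0,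
      - (M : Matrix (Fin 2) (Fin 2) K) 0 1] (by
        rw [Matrix.det_fin_two_of]
        linear_combination hdet) (by
        show - (M : Matrix (Fin 2) (Fin 2) K) 0 0 ≠ 0
        intro h1
        rw [neg_eq_zero] at h1
        rw [h1, zero_mul] at hdet
        exact zero_ne_one hdet)
    refine ⟨w⁻¹ * l, mul_mem (inv_mem hwL) hl, fun u => ?_⟩
    rw [map_mul, map_inv, LinearEquiv.mul_apply, hwi, hlu]
    apply Prod.ext
    · show - (- (M : Matrix (Fin 2) (Fin 2) K) 0 0 * u.1 + - (M : Matrix (Fin 2) (Fin 2) K) 0 1 * u.2) =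
        (M : Matrix (Fin 2) (Fin 2) K) 0 0 * u.1 + (M : Matrix (Fin 2) (Fin 2) K) 0 1 * u.2
      ring
    · show 0 * u.1 + (M : Matrix (Fin 2) (Fin 2) K) 1 1 * u.2 =
        (M : Matrix (Fin 2) (Fin 2) K) 1 0 * u.1 + (M : Matrix (Fin 2) (Fin 2) K) 1 1 * u.2
      rw [h0]
  · exact hc _ M.det_coe h0

end Gamma

/-- **(L2a)** -/
theorem stL2a (hG : StGrp.{u}) : StL2a.{u} := by
  intro K _ _ p n h Γ D hp htwo
  have hH := hyp h hp
  have := h.fin
  obtain ⟨ψ, h1, h2⟩ := hH.exists_shear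
  obtain ⟨k, hk⟩ := linear h hp hG htwo h1 h2
  obtain ⟨h3, h4⟩ := exact hk h1 h2
  refine ⟨?_, ?_, ?_⟩
  · intro t ht α hα
    obtain ⟨⟨d, hd, hdt⟩, -⟩ := diag_step h hp hG h1 ht
    rw [IsTor_unique h hp hα hdt]
    exact hd
  · have hle : Lam2 K ≤ (LG (Γ.map (pi h))).comap (pi h) := by
      refine sup_le ?_ ((Subgroup.closure_le _).2 ?_)
      · intro x hx
        exact TG_le_LG _ (pi_mem_TG h hx)
      · intro w hw
        obtain ⟨l, hl, hlu⟩ := h3 ⟨!![0, 1; -1, 0], by rw [Matrix.det_fin_two_of]; ring⟩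
        have h5 : pi h w = l := by
          apply ext'
          intro u
          rw [pi_w2 h hw, hlu]
          apply Prod.ext
          · show u.2 = 0 * u.1 + 1 * u.2
            ring
          · show - u.1 = -1 * u.1 + 0 * u.2
            ring
        show pi h w ∈ LG (Γ.map (pi h))
        rw [h5]
        exact hl
    intro l hl
    obtain ⟨γ, hγ, hγl⟩ := LG_le hH.le (hle hl)
    refine ⟨γ, hγ, fun e => ?_⟩
    have h5 : uu ((γ e : Q2 K) : UG K) = uu ((l e : Q2 K) : UG K) := by rw [← pi_uu h, ← pi_uu h, hγl]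
    exact ⟨congrArg Prod.fst h5, congrArg Prod.snd h5⟩
  · intro γ hγ
    obtain ⟨g, hg⟩ : ∃ g, g = pi h γ := ⟨_, rfl⟩
    have hgG : g ∈ Γ.map (pi h) := ⟨γ, hγ, hg.symm⟩
    -- move the fixed vector
    have hv0 : g (1, 0) ≠ 0 := by
      intro h5
      have h6 : g (1, 0) = g 0 := by rw [h5, map_zero]
      have h7 := congrArg Prod.fst (g.injective h6)
      exact one_ne_zero h7
    obtain ⟨N, hN⟩ := Hyp.exists_to_one (F := K) (w := ![(g (1, 0)).1, (g (1, 0)).2]) (by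
      intro h5
      apply hv0
      exact Prod.ext (congrFun h5 0) (congrFun h5 1))
    obtain ⟨l, hl, hlN⟩ := h3 N
    have hlv : l (g (1, 0)) = (1, 0) := by
      rw [hlN]
      have e0 := congrFun hN 0
      have e1 := congrFun hN 1
      simp only [Matrix.mulVec, dotProduct, Fin.sum_univ_two, Matrix.cons_val_zero, Matrix.cons_val_one,
        Matrix.cons_val_fin_one] at e0 e1
      exact Prod.ext e0 e1
    have hn : ∀ t ∈ TG K, (l * g) * t * (l * g)⁻¹ ∈ TG K := by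
      rintro _ ⟨r, rfl⟩
      have h5 : l * g * tau r * (l * g)⁻¹ ∈ LG (Γ.map (pi h)) := by
        have h6 : l * g * tau r * (l * g)⁻¹ = l * (g * tau r * g⁻¹) * l⁻¹ := by group
        rw [h6]
        exact mul_mem (mul_mem hl (conj_mem_LG hgG (tau_mem r))) (inv_mem hl)
      obtain ⟨M, hM⟩ := h4 _ h5
      have h6 : (l * g)⁻¹ (1, 0) = (1, 0) := by
        apply (l * g).injective
        rw [ai, LinearEquiv.mul_apply, hlv]
      have h7 := hM (1, 0)
      rw [LinearEquiv.mul_apply, LinearEquiv.mul_apply, h6, tau_apply, mul_zero, add_zero, LinearEquiv.mul_apply,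
        hlv] at h7
      have e0 : (M : Matrix (Fin 2) (Fin 2) K) 0 0 = 1 := by
        have := congrArg Prod.fst h7
        simp only [ml] at this
        simpa using this.symm
      have e1 : (M : Matrix (Fin 2) (Fin 2) K) 1 0 = 0 := by
        have := congrArg Prod.snd h7
        simp only [ml] at this
        simpa using this.symm
      have hdet := M.det_coe
      rw [Matrix.det_fin_two, e0, e1, one_mul, mul_zero, sub_zero] at hdet
      refine ⟨(M : Matrix (Fin 2) (Fin 2) K) 0 1, ?_⟩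
      apply ext'
      intro u
      rw [hM, tau_apply, ml, e0, e1, hdet, one_mul, zero_mul, zero_add, one_mul]
    obtain ⟨r, d, x1, x2, τ, δ, hd, hdt, hδ, hlg⟩ := norm_form h hp hG (mul_mem (LG_le hH.le hl) hgG) hn
    have h5 : l⁻¹ * tau r ∈ LG (Γ.map (pi h)) := mul_mem (inv_mem hl) (TG_le_LG _ (tau_mem r))
    obtain ⟨M, hM⟩ := h4 _ h5
    obtain ⟨lam, hlam, hlamM⟩ := gen h hG M
    have h6 : pi h lam = l⁻¹ * tau r := by
      apply ext'
      intro u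
      rw [hlamM, hM]
    refine ⟨lam, hlam, d, hd, δ, hδ, fun e => ?_⟩
    have h7 : pi h γ = pi h (lam * δ) := by
      rw [map_mul, h6, mul_assoc, ← hlg, ← hg]
      group
    have h8 : uu ((γ e : Q2 K) : UG K) = uu (((lam * δ) e : Q2 K) : UG K) := by
      rw [← pi_uu h, ← pi_uu h, h7]
    exact ⟨congrArg Prod.fst h8, congrArg Prod.snd h8⟩

end Cfsg.Agent.H7.PU.LTwoA
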