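import Cfsg.Agent.H7.PU.Shear
import Cfsg.Agent.H756.PU.Stmts
import Cfsg.Agent.LieClassical.HermBasic

/-!
# S5258, L2a: the action on `Q₂ / V = K × K` (helper7)
-/

set_option autoImplicit false
set_option linter.unusedSectionVars false

namespace Cfsg.Agent.H7.PU.Pi

open Matrix Cfsg Cfsg.FusionSystem Cfsg.Agent.H756.PU Cfsg.Agent.H7.PU.Core
open Cfsg.Agent.H802 (exists_conjAut mem_autInducedBy_iff)

universe u

variable {K : Type u} [Field K] [StarRing K] {p n : ℕ}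

/-- coordinates -/
def uu (x : UG K) : K × K := (x.u1, x.u2)

theorem r_Q2 (e : Q2 K) : (e : UG K).r = 0 := e.2

theorem uu_mul (e e' : Q2 K) : uu ((e * e' : Q2 K) : UG K) = uu (e : UG K) + uu (e' : UG K) := by
  have h1 : ((e * e' : Q2 K) : UG K) = (e : UG K) * (e' : UG K) := rfl
  apply Prod.ext
  · show ((e * e' : Q2 K) : UG K).u1 = (e : UG K).u1 + (e' : UG K).u1
    rw [h1, UG.mul_u1, r_Q2, zero_mul, add_zero]
  · show ((e * e' : Q2 K) : UG K).u2 = (e : UG K).u2 + (e' : UG K).u2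
    rw [h1, UG.mul_u2]

theorem uu_inv (e : Q2 K) : uu ((e⁻¹ : Q2 K) : UG K) = - uu (e : UG K) := by
  have h1 := uu_mul e⁻¹ e
  rw [inv_mul_cancel] at h1
  exact eq_neg_of_add_eq_zero_left h1.symm

section Trace

theorem exists_tr (h : HypK K p n) {c : K} (hc : star c = c) : ∃ x : K, x + star x = c := by
  have := h.fin
  have := Fintype.ofFinite K
  have hF : Fintype.card K = (p ^ n) ^ 2 := by rw [← Nat.card_eq_fintype_card, h.card]
  rw [h.star_eq] at hc
  obtain ⟨x, hx⟩ := Cfsg.Agent.LieClassical.HermBasic.exists_trace_eq hF hc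
  exact ⟨x, by rw [h.star_eq]; exact hx⟩

theorem exists_nf (h : HypK K p n) : ∃ x : K, star x ≠ x := by
  have := h.fin
  have := Fintype.ofFinite K
  have hF : Fintype.card K = (p ^ n) ^ 2 := by rw [← Nat.card_eq_fintype_card, h.card]
  obtain ⟨x, hx⟩ := Cfsg.Agent.LieClassical.HermBasic.exists_not_fixed hF
  exact ⟨x, by rw [h.star_eq]; exact hx⟩

theorem exists_uu (h : HypK K p n) (u : K × K) : ∃ e : Q2 K, uu (e : UG K) = u := by
  obtain ⟨a, ha⟩ := exists_tr h (c := - (u.1 * star u.1)) (by rw [star_neg, star_mul', star_star, mul_comm])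
  obtain ⟨c, hc⟩ := exists_tr h (c := - (u.2 * star u.2)) (by rw [star_neg, star_mul', star_star, mul_comm])
  refine ⟨⟨{ r := 0, u1 := u.1, u2 := u.2, a := a, b := 0, c := c, ha := by rw [ha]; ring, hc := by rw [hc]; ring },
    rfl⟩, rfl⟩

end Trace

theorem mul_a' (e e' : Q2 K) : ((e * e' : Q2 K) : UG K).a = (e : UG K).a + (e' : UG K).a -
    (e : UG K).u1 * star (e' : UG K).u1 := by
  have h1 : ((e * e' : Q2 K) : UG K) = (e : UG K) * (e' : UG K) := rfl
  rw [h1, UG.mul_a, r_Q2, star_zero]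
  ring

theorem mul_b' (e e' : Q2 K) : ((e * e' : Q2 K) : UG K).b = (e : UG K).b + (e' : UG K).b -
    (e : UG K).u1 * star (e' : UG K).u2 := by
  have h1 : ((e * e' : Q2 K) : UG K) = (e : UG K) * (e' : UG K) := rfl
  rw [h1, UG.mul_b, r_Q2]
  ring

theorem mul_c' (e e' : Q2 K) : ((e * e' : Q2 K) : UG K).c = (e : UG K).c + (e' : UG K).c -
    (e : UG K).u2 * star (e' : UG K).u2 := rfl

theorem mul_u1' (e e' : Q2 K) : ((e * e' : Q2 K) : UG K).u1 = (e : UG K).u1 + (e' : UG K).u1 :=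
  congrArg Prod.fst (uu_mul e e')

theorem mul_u2' (e e' : Q2 K) : ((e * e' : Q2 K) : UG K).u2 = (e : UG K).u2 + (e' : UG K).u2 :=
  congrArg Prod.snd (uu_mul e e')

/-- `V` is the centre of `Q₂` -/
theorem central_iff (h : HypK K p n) (e : Q2 K) : (∀ y : Q2 K, e * y = y * e) ↔ uu (e : UG K) = 0 := by
  constructor
  · intro hc
    have h1 : ∀ u : K × K, (e : UG K).u1 * star u.1 = u.1 * star (e : UG K).u1 ∧
        (e : UG K).u1 * star u.2 = u.1 * star (e : UG K).u2 := by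
      intro u
      obtain ⟨y, hy⟩ := exists_uu h u
      have hy1 : (y : UG K).u1 = u.1 := congrArg Prod.fst hy
      have hy2 : (y : UG K).u2 = u.2 := congrArg Prod.snd hy
      have h2 := congrArg (fun z : Q2 K => (z : UG K).a) (hc y)
      have h3 := congrArg (fun z : Q2 K => (z : UG K).b) (hc y)
      simp only [mul_a', mul_b', hy1, hy2] at h2 h3
      exact ⟨by linear_combination -h2, by linear_combination -h3⟩
    have h2 : (e : UG K).u1 = star (e : UG K).u1 := by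
      have := (h1 (1, 0)).1
      simpa using this
    have h3 : (e : UG K).u1 = 0 := by
      obtain ⟨x, hx⟩ := exists_nf h
      have h4 := (h1 (x, 0)).1
      simp only at h4
      rw [← h2, mul_comm x, ← sub_eq_zero, ← mul_sub] at h4
      rcases mul_eq_zero.1 h4 with h5 | h5
      · exact h5
      · exact absurd (sub_eq_zero.1 h5) hx
    have h4 : (e : UG K).u2 = 0 := by
      have h5 := (h1 (1, 0)).2
      simp only at h5
      rw [star_zero, mul_zero, one_mul] at h5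
      exact star_eq_zero.1 h5.symm
    exact Prod.ext h3 h4
  · intro h0 y
    have h1 : (e : UG K).u1 = 0 := congrArg Prod.fst h0
    have h2 : (e : UG K).u2 = 0 := congrArg Prod.snd h0
    apply Subtype.ext
    apply UG.ext
    · rw [r_Q2, r_Q2]
    · rw [mul_u1', mul_u1', add_comm]
    · rw [mul_u2', mul_u2', add_comm]
    · rw [mul_a', mul_a', h1, star_zero]; ring
    · rw [mul_b', mul_b', h1, h2, star_zero]; ring
    · rw [mul_c', mul_c', h2, star_zero]; ring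

section Pi

variable (h : HypK K p n)
include h

/-- a section -/
noncomputable def sec (u : K × K) : Q2 K := (exists_uu h u).choose

theorem uu_sec (u : K × K) : uu (sec h u : UG K) = u := (exists_uu h u).choose_spec

/-- the induced map -/
noncomputable def fn (γ : MulAut (Q2 K)) (u : K × K) : K × K := uu ((γ (sec h u) : Q2 K) : UG K)

theorem fn_uu (γ : MulAut (Q2 K)) (e : Q2 K) : fn h γ (uu (e : UG K)) = uu ((γ e : Q2 K) : UG K) := by
  have h1 : uu (((sec h (uu (e : UG K)))⁻¹ * e : Q2 K) : UG K) = 0 := by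
    rw [uu_mul, uu_inv, uu_sec, neg_add_cancel]
  rw [← central_iff h] at h1
  have h2 : uu ((γ ((sec h (uu (e : UG K)))⁻¹ * e) : Q2 K) : UG K) = 0 := by
    rw [← central_iff h]
    intro y
    obtain ⟨z, rfl⟩ := γ.surjective y
    rw [← map_mul, h1, map_mul]
  rw [map_mul, map_inv, uu_mul, uu_inv, neg_add_eq_zero] at h2
  exact h2

theorem fn_mul (γ γ' : MulAut (Q2 K)) (u : K × K) : fn h (γ * γ') u = fn h γ (fn h γ' u) := by
  conv_lhs => rw [← uu_sec h u]
  conv_rhs => rw [← uu_sec h u]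
  rw [fn_uu, fn_uu, fn_uu]
  rfl

theorem fn_one (u : K × K) : fn h 1 u = u := by
  conv_lhs => rw [← uu_sec h u]
  rw [fn_uu]
  exact uu_sec h u

theorem fn_add (γ : MulAut (Q2 K)) (u v : K × K) : fn h γ (u + v) = fn h γ u + fn h γ v := by
  conv_lhs => rw [← uu_sec h u, ← uu_sec h v, ← uu_mul]
  conv_rhs => rw [← uu_sec h u, ← uu_sec h v]
  rw [fn_uu, fn_uu, fn_uu, map_mul, uu_mul]

/-- **The action on `Q₂ / V`.** -/
noncomputable def pi : MulAut (Q2 K) →* A2 K where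
  toFun γ := mk
    { toFun := fn h γ
      invFun := fn h γ⁻¹
      left_inv := fun u => by rw [← fn_mul, inv_mul_cancel, fn_one]
      right_inv := fun u => by rw [← fn_mul, mul_inv_cancel, fn_one]
      map_add' := fn_add h γ }
  map_one' := ext' fun u => fn_one h u
  map_mul' γ γ' := ext' fun u => fn_mul h γ γ' u

theorem pi_uu (γ : MulAut (Q2 K)) (e : Q2 K) : pi h γ (uu (e : UG K)) = uu ((γ e : Q2 K) : UG K) := fn_uu h γ e

theorem pi_ext {γ : MulAut (Q2 K)} {g : A2 K} (hg : ∀ e : Q2 K, g (uu (e : UG K)) = uu ((γ e : Q2 K) : UG K)) :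
    pi h γ = g := by
  apply ext'
  intro u
  rw [← uu_sec h u, pi_uu, hg]

theorem pi_conj {γ : MulAut (Q2 K)} {x : UG K} (hx : ∀ e : Q2 K, ((γ e : Q2 K) : UG K) = x * e * x⁻¹) :
    pi h γ = tau x.r := by
  apply pi_ext
  intro e
  rw [hx, tau_apply]
  apply Prod.ext
  · simp only [uu, UG.mul_u1, UG.mul_r, UG.inv_u1, UG.inv_u2, r_Q2]
    ring
  · simp only [uu, UG.mul_u2, UG.inv_u2]
    ring

theorem pi_tor {δ : MulAut (Q2 K)} {d : MulAut (UG K)} {x1 x2 : K} {τ : K ≃+* K} (hd : IsTor d x1 x2 τ) (hδ : IsR d δ)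
    (u : K × K) : pi h δ u = (x1 * τ u.1, x2 * τ u.2) := by
  rw [← uu_sec h u, pi_uu, hδ]
  exact Prod.ext (hd.u1 _) (hd.u2 _)

theorem pi_w2 {γ : MulAut (Q2 K)} (hγ : IsW2 γ) (u : K × K) : pi h γ u = (u.2, - u.1) := by
  rw [← uu_sec h u, pi_uu]
  exact Prod.ext (hγ.u1 _) (hγ.u2 _)

omit h in
/-- conjugation on `Q₂` -/
theorem exists_conj (x : UG K) : ∃ γ : MulAut (Q2 K), ∀ e : Q2 K, ((γ e : Q2 K) : UG K) = x * e * x⁻¹ := by
  apply exists_conjAut
  rw [Subgroup.mem_normalizer_iff]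
  intro g
  show g.r = 0 ↔ (x * g * x⁻¹).r = 0
  rw [UG.mul_r, UG.mul_r, UG.inv_r]
  constructor
  · intro h1; rw [h1]; ring
  · intro h1; linear_combination h1

omit h in
theorem exists_conj_aut (x : UG K) : ∃ γ ∈ autInducedBy ⊤ (Q2 K), ∀ e : Q2 K, ((γ e : Q2 K) : UG K) = x * e * x⁻¹ := by
  obtain ⟨γ, hγ⟩ := exists_conj x
  exact ⟨γ, (mem_autInducedBy_iff _ _ _).2 ⟨x, Subgroup.mem_top x, hγ⟩, hγ⟩

omit h in
/-- an element with given `r` -/
theorem exists_r (r : K) : ∃ x : UG K, x.r = r :=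
  ⟨{ r := r, u1 := 0, u2 := 0, a := 0, b := 0, c := 0, ha := by simp, hc := by simp }, rfl⟩

theorem pi_mem_TG {γ : MulAut (Q2 K)} (hγ : γ ∈ autInducedBy ⊤ (Q2 K)) : pi h γ ∈ TG K := by
  obtain ⟨x, -, hx⟩ := (mem_autInducedBy_iff _ _ _).1 hγ
  rw [pi_conj h hx]
  exact tau_mem _

theorem exists_of_mem_TG {g : A2 K} (hg : g ∈ TG K) : ∃ γ ∈ autInducedBy ⊤ (Q2 K), pi h γ = g := by
  obtain ⟨r, rfl⟩ := hg
  obtain ⟨x, rfl⟩ := exists_r r
  obtain ⟨γ, hγ, hx⟩ := exists_conj_aut x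
  exact ⟨γ, hγ, pi_conj h hx⟩

/-- elements of the kernel have order dividing `p` -/
theorem ker_pow {γ : MulAut (Q2 K)} (hγ : pi h γ = 1) : γ ^ p = 1 := by
  have := h.char
  have huu : ∀ e : Q2 K, uu ((γ e : Q2 K) : UG K) = uu (e : UG K) := by
    intro e
    rw [← pi_uu h, hγ]
    rfl
  have h1 : ∀ e : Q2 K, ((γ e : Q2 K) : UG K).u1 = (e : UG K).u1 := fun e => congrArg Prod.fst (huu e)
  have h2 : ∀ e : Q2 K, ((γ e : Q2 K) : UG K).u2 = (e : UG K).u2 := fun e => congrArg Prod.snd (huu e)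
  -- commutators are fixed
  have hcom : ∀ x y x' y' : Q2 K, uu (x' : UG K) = uu (x : UG K) → uu (y' : UG K) = uu (y : UG K) →
      x' * y' * x'⁻¹ * y'⁻¹ = x * y * x⁻¹ * y⁻¹ := by
    intro x y x' y' hx hy
    have e1 : uu ((x⁻¹ * x' : Q2 K) : UG K) = 0 := by rw [uu_mul, uu_inv, hx, neg_add_cancel]
    have e2 : uu ((y⁻¹ * y' : Q2 K) : UG K) = 0 := by rw [uu_mul, uu_inv, hy, neg_add_cancel]
    rw [← central_iff h] at e1 e2
    obtain ⟨z, hz⟩ : ∃ z, z = x⁻¹ * x' := ⟨_, rfl⟩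
    obtain ⟨w, hw⟩ : ∃ w, w = y⁻¹ * y' := ⟨_, rfl⟩
    rw [← hz] at e1
    rw [← hw] at e2
    have hx' : x' = x * z := by rw [hz]; group
    have hy' : y' = y * w := by rw [hw]; group
    rw [hx', hy']
    calc x * z * (y * w) * (x * z)⁻¹ * (y * w)⁻¹ = x * (z * y) * w * z⁻¹ * x⁻¹ * w⁻¹ * y⁻¹ := by group
      _ = x * (y * z) * w * z⁻¹ * x⁻¹ * w⁻¹ * y⁻¹ := by rw [e1 y]
      _ = x * y * (z * w) * z⁻¹ * x⁻¹ * w⁻¹ * y⁻¹ := by group
      _ = x * y * (w * z) * z⁻¹ * x⁻¹ * w⁻¹ * y⁻¹ := by rw [e1 w]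
      _ = x * y * (w * x⁻¹) * w⁻¹ * y⁻¹ := by group
      _ = x * y * (x⁻¹ * w) * w⁻¹ * y⁻¹ := by rw [e2 x⁻¹]
      _ = x * y * x⁻¹ * y⁻¹ := by group
  have hfixc : ∀ x y : Q2 K, γ (x * y * x⁻¹ * y⁻¹) = x * y * x⁻¹ * y⁻¹ := by
    intro x y
    rw [map_mul, map_mul, map_mul, map_inv, map_inv]
    exact hcom x y _ _ (huu x) (huu y)
  -- coordinates of commutators
  have hcc : ∀ x y : Q2 K, uu ((x * y * x⁻¹ * y⁻¹ : Q2 K) : UG K) = 0 ∧
      ((x * y * x⁻¹ * y⁻¹ : Q2 K) : UG K).a = - (x : UG K).u1 * star (y : UG K).u1 + (y : UG K).u1 * star (x : UG K).u1 ∧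
      ((x * y * x⁻¹ * y⁻¹ : Q2 K) : UG K).b = - (x : UG K).u1 * star (y : UG K).u2 + (y : UG K).u1 * star (x : UG K).u2 ∧
      ((x * y * x⁻¹ * y⁻¹ : Q2 K) : UG K).c = - (x : UG K).u2 * star (y : UG K).u2 + (y : UG K).u2 * star (x : UG K).u2 := by
    intro x y
    obtain ⟨z, hz⟩ : ∃ z, z = x * y * x⁻¹ * y⁻¹ := ⟨_, rfl⟩
    have hz0 : uu (z : UG K) = 0 := by
      rw [hz, uu_mul, uu_mul, uu_mul, uu_inv, uu_inv]
      abel
    have hz1 : (z : UG K).u1 = 0 := congrArg Prod.fst hz0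
    have hz2 : (z : UG K).u2 = 0 := congrArg Prod.snd hz0
    have hxy : x * y = z * (y * x) := by rw [hz]; group
    have ea := congrArg (fun w : Q2 K => (w : UG K).a) hxy
    have eb := congrArg (fun w : Q2 K => (w : UG K).b) hxy
    have ec := congrArg (fun w : Q2 K => (w : UG K).c) hxy
    simp only [mul_a', mul_b', mul_c', hz1, hz2, zero_mul] at ea eb ec
    rw [← hz]
    exact ⟨hz0, by linear_combination -ea, by linear_combination -eb, by linear_combination -ec⟩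
  obtain ⟨θ, hθ⟩ := exists_tr h (c := (1 : K)) (star_one K)
  have hfixV : ∀ v : Q2 K, uu (v : UG K) = 0 → γ v = v := by
    intro v hv
    have hv1 : (v : UG K).u1 = 0 := congrArg Prod.fst hv
    have hv2 : (v : UG K).u2 = 0 := congrArg Prod.snd hv
    have hva := (v : UG K).ha
    have hvc := (v : UG K).hc
    rw [hv1, zero_mul, add_zero] at hva
    rw [hv2, zero_mul, add_zero] at hvc
    have hsa : star (v : UG K).a = - (v : UG K).a := by linear_combination hva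
    have hsc : star (v : UG K).c = - (v : UG K).c := by linear_combination hvc
    obtain ⟨x1, hx1⟩ := exists_uu h ((1 : K), (0 : K))
    obtain ⟨y1, hy1⟩ := exists_uu h ((v : UG K).a * θ, (0 : K))
    obtain ⟨x2, hx2⟩ := exists_uu h ((0 : K), (1 : K))
    obtain ⟨y2, hy2⟩ := exists_uu h ((0 : K), (v : UG K).c * θ)
    obtain ⟨y3, hy3⟩ := exists_uu h ((0 : K), - star (v : UG K).b)
    have ax1 : (x1 : UG K).u1 = 1 := congrArg Prod.fst hx1
    have bx1 : (x1 : UG K).u2 = 0 := congrArg Prod.snd hx1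
    have ay1 : (y1 : UG K).u1 = (v : UG K).a * θ := congrArg Prod.fst hy1
    have by1 : (y1 : UG K).u2 = 0 := congrArg Prod.snd hy1
    have ax2 : (x2 : UG K).u1 = 0 := congrArg Prod.fst hx2
    have bx2 : (x2 : UG K).u2 = 1 := congrArg Prod.snd hx2
    have ay2 : (y2 : UG K).u1 = 0 := congrArg Prod.fst hy2
    have by2 : (y2 : UG K).u2 = (v : UG K).c * θ := congrArg Prod.snd hy2
    have ay3 : (y3 : UG K).u1 = 0 := congrArg Prod.fst hy3
    have by3 : (y3 : UG K).u2 = - star (v : UG K).b := congrArg Prod.snd hy3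
    obtain ⟨c1, hc1⟩ : ∃ c1, c1 = x1 * y1 * x1⁻¹ * y1⁻¹ := ⟨_, rfl⟩
    obtain ⟨c2, hc2⟩ : ∃ c2, c2 = x2 * y2 * x2⁻¹ * y2⁻¹ := ⟨_, rfl⟩
    obtain ⟨c3, hc3⟩ : ∃ c3, c3 = x1 * y3 * x1⁻¹ * y3⁻¹ := ⟨_, rfl⟩
    have k1 := hcc x1 y1
    have k2 := hcc x2 y2
    have k3 := hcc x1 y3
    rw [← hc1] at k1
    rw [← hc2] at k2
    rw [← hc3] at k3
    obtain ⟨k10, k1a, k1b, k1c⟩ := k1
    obtain ⟨k20, k2a, k2b, k2c⟩ := k2
    obtain ⟨k30, k3a, k3b, k3c⟩ := k3
    rw [ax1, ay1] at k1a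
    rw [ax1, by1, ay1, bx1] at k1b
    rw [bx1, by1] at k1c
    rw [ax2, ay2] at k2a
    rw [ax2, by2, ay2, bx2] at k2b
    rw [bx2, by2] at k2c
    rw [ax1, ay3] at k3a
    rw [ax1, by3, ay3, bx1] at k3b
    rw [bx1, by3] at k3c
    have e1 : ∀ c : Q2 K, uu (c : UG K) = 0 → (c : UG K).u1 = 0 ∧ (c : UG K).u2 = 0 := fun c hc =>
      ⟨congrArg Prod.fst hc, congrArg Prod.snd hc⟩
    have hv' : v = c1 * (c2 * c3) := by
      apply Subtype.ext
      apply UG.ext
      · rw [r_Q2, r_Q2]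
      · rw [mul_u1', mul_u1', (e1 _ k10).1, (e1 _ k20).1, (e1 _ k30).1, hv1]; ring
      · rw [mul_u2', mul_u2', (e1 _ k10).2, (e1 _ k20).2, (e1 _ k30).2, hv2]; ring
      · rw [mul_a', mul_a', (e1 _ k10).1, (e1 _ k20).1, k1a, k2a, k3a, star_mul', hsa, star_one, star_zero]
        linear_combination (-(v : UG K).a) * hθ
      · rw [mul_b', mul_b', (e1 _ k10).1, (e1 _ k20).1, k1b, k2b, k3b, star_neg, star_star, star_zero]
        ring
      · rw [mul_c', mul_c', (e1 _ k10).2, (e1 _ k20).2, k1c, k2c, k3c, star_mul', hsc, star_one, star_zero]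
        linear_combination (-(v : UG K).c) * hθ
    rw [hv', map_mul, map_mul, hc1, hc2, hc3, hfixc, hfixc, hfixc]
  -- exponent
  have hexp : ∀ v : Q2 K, uu (v : UG K) = 0 → v ^ p = 1 := by
    intro v hv
    have hv1 : (v : UG K).u1 = 0 := congrArg Prod.fst hv
    have hv2 : (v : UG K).u2 = 0 := congrArg Prod.snd hv
    have key : ∀ k : ℕ, uu ((v ^ k : Q2 K) : UG K) = 0 ∧ ((v ^ k : Q2 K) : UG K).a = k * (v : UG K).a ∧
        ((v ^ k : Q2 K) : UG K).b = k * (v : UG K).b ∧ ((v ^ k : Q2 K) : UG K).c = k * (v : UG K).c := by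
      intro k
      induction k with
      | zero =>
        refine ⟨?_, ?_, ?_, ?_⟩
        · rw [pow_zero]; rfl
        · rw [pow_zero, Nat.cast_zero, zero_mul]; rfl
        · rw [pow_zero, Nat.cast_zero, zero_mul]; rfl
        · rw [pow_zero, Nat.cast_zero, zero_mul]; rfl
      | succ k ih =>
        obtain ⟨i0, ia, ib, ic⟩ := ih
        have i1 : ((v ^ k : Q2 K) : UG K).u1 = 0 := congrArg Prod.fst i0
        have i2 : ((v ^ k : Q2 K) : UG K).u2 = 0 := congrArg Prod.snd i0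
        refine ⟨?_, ?_, ?_, ?_⟩
        · rw [pow_succ, uu_mul, i0, hv, add_zero]
        · rw [pow_succ, mul_a', ia, i1, Nat.cast_succ]; ring
        · rw [pow_succ, mul_b', ib, i1, Nat.cast_succ]; ring
        · rw [pow_succ, mul_c', ic, i2, Nat.cast_succ]; ring
    obtain ⟨i0, ia, ib, ic⟩ := key p
    rw [CharP.cast_eq_zero, zero_mul] at ia ib ic
    apply Subtype.ext
    apply UG.ext
    · rw [r_Q2]; rfl
    · exact congrArg Prod.fst i0
    · exact congrArg Prod.snd i0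
    · exact ia
    · exact ib
    · exact ic
  ext1 e
  obtain ⟨d, hd⟩ : ∃ d, d = e⁻¹ * γ e := ⟨_, rfl⟩
  have hd0 : uu (d : UG K) = 0 := by rw [hd, uu_mul, uu_inv, huu, neg_add_cancel]
  have key : ∀ k : ℕ, (γ ^ k) e = e * d ^ k := by
    intro k
    induction k with
    | zero => rw [pow_zero, pow_zero, mul_one]; rfl
    | succ k ih =>
      rw [pow_succ', MulAut.mul_apply, ih, map_mul, map_pow, hfixV d hd0, pow_succ', ← mul_assoc]
      congr 1
      rw [hd]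
      group
  rw [key, hexp d hd0, mul_one]
  rfl

end Pi

end Cfsg.Agent.H7.PU.Pi
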