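import Cfsg.Agent.H7.PU.Core

/-!
# S5258, L2a: the shear is linear (helper7)
-/

set_option autoImplicit false
set_option linter.unusedSectionVars false

namespace Cfsg.Agent.H7.PU.Shear

open Matrix Cfsg.Agent.H7.PU.Core

universe u

variable {K : Type u} [Field K] [Finite K]

theorem exists_sq_ne (h4 : 4 ≤ Nat.card K) : ∃ s : K, s ≠ 0 ∧ s⁻¹ - s ≠ 0 := by
  classical
  have : Fintype K := Fintype.ofFinite K
  have h1 : ({0, 1, -1} : Finset K).card < (Finset.univ : Finset K).card := by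
    rw [Finset.card_univ, ← Nat.card_eq_fintype_card]
    exact lt_of_le_of_lt Finset.card_le_three (by omega)
  obtain ⟨s, -, hs⟩ := Finset.exists_mem_notMem_of_card_lt_card h1
  simp only [Finset.mem_insert, Finset.mem_singleton, not_or] at hs
  refine ⟨s, hs.1, fun h => ?_⟩
  have h2 : (s - 1) * (s + 1) = 0 := by
    have h3 : s * s⁻¹ = 1 := mul_inv_cancel₀ hs.1
    linear_combination h3 - s * h
  rcases mul_eq_zero.1 h2 with h3 | h3
  · exact hs.2.1 (sub_eq_zero.1 h3)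
  · exact hs.2.2 (eq_neg_of_add_eq_zero_left h3)

theorem exists_good (h5 : 5 ≤ Nat.card K) : ∃ v : K, v ≠ 0 ∧ 1 + v ≠ 0 ∧ 1 + v + v * v ≠ 0 := by
  classical
  have : Fintype K := Fintype.ofFinite K
  by_contra hno
  push Not at hno
  let P : Polynomial K := Polynomial.X * (Polynomial.X + 1) * (Polynomial.X ^ 2 + Polynomial.X + 1)
  have hm : P.Monic := by
    refine (Polynomial.monic_X.mul ?_).mul ?_
    · exact Polynomial.monic_X_add_C 1
    · monicity!
  have hd : P.natDegree ≤ 4 := by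
    simp only [P]
    compute_degree
  have h1 : (Finset.univ : Finset K).val ⊆ P.roots := by
    intro v _
    rw [Polynomial.mem_roots hm.ne_zero]
    show Polynomial.eval v P = 0
    simp only [P, Polynomial.eval_mul, Polynomial.eval_add, Polynomial.eval_pow, Polynomial.eval_X, Polynomial.eval_one]
    by_cases h0 : v = 0
    · rw [h0, zero_mul, zero_mul]
    · by_cases h1 : 1 + v = 0
      · have : v + 1 = 0 := by rw [add_comm]; exact h1
        rw [this, mul_zero, zero_mul]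
      · have h2 := hno v h0 h1
        have : v ^ 2 + v + 1 = 0 := by linear_combination h2
        rw [this, mul_zero]
  have h2 := Polynomial.card_le_degree_of_subset_roots h1
  rw [Finset.card_univ, ← Nat.card_eq_fintype_card] at h2
  omega

/-- `q > 2` -/
theorem lin1 (h5 : 5 ≤ Nat.card K) (ψ : K →+ K)
    (h : ∀ t : K, t ≠ 0 → ∃ r : K, ∀ u : K, r * (t⁻¹ * u) + ψ (t⁻¹ * u) = t * ψ u) : ∃ k : K, ∀ u, ψ u = k * u := by
  refine ⟨ψ 1, ?_⟩
  obtain ⟨φ, hφ⟩ : ∃ φ : K → K, ∀ u, φ u = ψ u - ψ 1 * u := ⟨_, fun _ => rfl⟩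
  have h1 : ∀ s u : K, s ≠ 0 → φ (s * u) = s⁻¹ * φ u + φ s * u := by
    intro s u hs
    obtain ⟨r, hr⟩ := h s⁻¹ (inv_ne_zero hs)
    have h2 := hr u
    have h3 := hr 1
    rw [inv_inv] at h2 h3
    rw [mul_one] at h3
    rw [hφ, hφ, hφ]
    linear_combination h2 - u * h3
  have hadd : ∀ u v, φ (u + v) = φ u + φ v := by
    intro u v
    rw [hφ, hφ, hφ, map_add]
    ring
  obtain ⟨s, hs0, hs⟩ := exists_sq_ne (K := K) (by omega)
  obtain ⟨k, hk⟩ : ∃ k, k = φ s / (s⁻¹ - s) := ⟨_, rfl⟩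
  have h2 : ∀ u, u ≠ 0 → φ u = k * (u⁻¹ - u) := by
    intro u hu
    have h3 := h1 s u hs0
    have h4 := h1 u s hu
    rw [mul_comm u s] at h4
    have h5 : φ u * (s⁻¹ - s) = φ s * (u⁻¹ - u) := by linear_combination h4 - h3
    rw [hk, div_mul_eq_mul_div, eq_div_iff hs]
    exact h5
  obtain ⟨v, hv0, hv1, hv2⟩ := exists_good h5
  have hk0 : k = 0 := by
    have h3 := hadd 1 v
    rw [h2 _ hv1, h2 _ one_ne_zero, h2 _ hv0, inv_one] at h3
    have h4 : k * (1 + v + v * v) = 0 := by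
      have e1 : (1 + v) * (1 + v)⁻¹ = 1 := mul_inv_cancel₀ hv1
      have e2 : v * v⁻¹ = 1 := mul_inv_cancel₀ hv0
      linear_combination (-(v * (1 + v))) * h3 + k * v * e1 - k * (1 + v) * e2
    rcases mul_eq_zero.1 h4 with h5 | h5
    · exact h5
    · exact absurd h5 hv2
  intro u
  have h3 : φ u = 0 := by
    by_cases hu : u = 0
    · rw [hφ, hu, map_zero, mul_zero, sub_zero]
    · rw [h2 u hu, hk0, zero_mul]
  rw [hφ] at h3
  exact sub_eq_zero.1 h3

/-- `D` contains `tor(t, 1)`, `t ≠ 1` -/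
theorem lin2 (ψ : K →+ K) {t : K} (ht0 : t ≠ 0) (ht1 : t ≠ 1) {m n : K}
    (h : ∀ u1 u2 : K, - (t⁻¹ * u1 + ψ u2) = m * (u1 + ψ u2) + n * u2) : ∃ k : K, ∀ u, ψ u = k * u := by
  have h1 : m = - t⁻¹ := by
    have := h 1 0
    rw [map_zero, mul_one, add_zero, add_zero, mul_one, mul_zero, add_zero] at this
    exact this.symm
  have h2 : t⁻¹ - 1 ≠ 0 := by
    intro h3
    apply ht1
    have h4 : t⁻¹ = 1 := sub_eq_zero.1 h3
    exact inv_eq_one.1 h4
  refine ⟨n / (t⁻¹ - 1), fun u => ?_⟩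
  have h3 := h 0 u
  rw [div_mul_eq_mul_div, eq_div_iff h2]
  rw [h1] at h3
  linear_combination h3

/-- With a linear shear the group is `SL₂(K)`. -/
theorem exact {G : Subgroup (A2 K)} {ψ : K →+ K} {k : K} (hk : ∀ u, ψ u = k * u)
    (h1 : ∀ M : Matrix.SpecialLinearGroup (Fin 2) K, ∃ l ∈ LG G, ∀ u, sh ψ (l u) = ml (M : Matrix (Fin 2) (Fin 2) K) (sh ψ u))
    (h2 : ∀ l ∈ LG G, ∃ M : Matrix.SpecialLinearGroup (Fin 2) K, ∀ u,
      sh ψ (l u) = ml (M : Matrix (Fin 2) (Fin 2) K) (sh ψ u)) :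
    (∀ M : Matrix.SpecialLinearGroup (Fin 2) K, ∃ l ∈ LG G, ∀ u, l u = ml (M : Matrix (Fin 2) (Fin 2) K) u) ∧
    (∀ l ∈ LG G, ∃ M : Matrix.SpecialLinearGroup (Fin 2) K, ∀ u, l u = ml (M : Matrix (Fin 2) (Fin 2) K) u) := by
  have hsh : ∀ u, sh ψ u = tau k u := by
    intro u
    rw [sh, tau_apply, hk]
  have htau : tau k ∈ LG G := TG_le_LG G (tau_mem k)
  constructor
  · intro M
    obtain ⟨l, hl, hM⟩ := h1 M
    refine ⟨tau k * l * (tau k)⁻¹, mul_mem (mul_mem htau hl) (inv_mem htau), fun u => ?_⟩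
    rw [LinearEquiv.mul_apply, LinearEquiv.mul_apply, ← hsh, hM, hsh, ai]
  · intro l hl
    obtain ⟨M, hM⟩ := h2 ((tau k)⁻¹ * l * tau k) (mul_mem (mul_mem (inv_mem htau) hl) htau)
    refine ⟨M, fun u => ?_⟩
    have h3 := hM ((tau k)⁻¹ u)
    rw [hsh, hsh, LinearEquiv.mul_apply, LinearEquiv.mul_apply, ai, ai] at h3
    exact h3

end Cfsg.Agent.H7.PU.Shear
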